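import Cfsg.Agent.CoThreeStd.M12.Model
import Cfsg.Agent.MTwelveType.SylowModel

/-!
# The outer automorphism group of `M₁₂` has order at most two

`G12 = ⟨g, n, y⟩`, `g` of order 11, `n` of order 5 with `n g n⁻¹ = g⁴`, `y` the only involution commuting with `n`.
An automorphism can be changed by an inner one so that `g ↦ g^{±1}`, `n ↦ n`, `y ↦ y`.
-/

set_option autoImplicit false

namespace Cfsg.Agent.CoThreeStd.M12.Out

open Equiv Cfsg Cfsg.Agent.CoThreeStd.M12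
open Cfsg.Agent.SporadicStructure
open scoped Pointwise

/-! ### sharp 5-transitivity -/

/-- An element of `G12` fixing five points is trivial. -/
theorem fix_five {x : P12} (hx : x ∈ G12) (s : Finset (Fin 12)) (hs : 5 ≤ s.card) (h : ∀ i ∈ s, x i = i) : x = 1 := by
  rw [← range_eq] at hx
  obtain ⟨g, rfl⟩ := hx
  obtain ⟨t, hts, ht⟩ := Finset.exists_subset_card_eq hs
  let e := (t.orderIsoOfFin ht)
  have hinj : Function.Injective (fun k : Fin 5 => dp (e k : Fin 12)) := by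
    intro k l hkl
    exact e.injective (Subtype.ext (dp_injective hkl))
  obtain ⟨x, -, hx⟩ := DodecadM12.exists_unique_dodecad_map Spor.squareDodecad Spor.squareDodecad
    dodecad_mem dodecad_mem (fun k => dp (e k : Fin 12)) (fun k => dp (e k : Fin 12)) hinj hinj
    (fun k => dp_mem _) (fun k => dp_mem _)
  have h1 : (g : Perm GolayPt) = x := hx _ ⟨g.2.1, g.2.2, fun k => by
    show (g : Perm GolayPt) (dp (e k : Fin 12)) = dp (e k : Fin 12)
    rw [← dp_rho, h _ (hts (e k).2)]⟩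
  have h2 : (1 : Perm GolayPt) = x := hx _ ⟨one_mem _, one_smul _ _, fun k => rfl⟩
  have h3 : g = 1 := by
    apply Subtype.ext
    rw [h1, ← h2]
    rfl
  rw [h3, map_one]

theorem card_G12 : Nat.card G12 = 95040 := by
  rw [← Nat.card_congr equiv.toEquiv]
  exact Cfsg.Agent.MTwelveType.SylowModel.card_M12

instance : Finite G12 := Nat.finite_of_card_ne_zero (by rw [card_G12]; norm_num)

/-- An element commuting with `u` and fixing a point of an orbit of `u` of length at least 5 is trivial. -/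
theorem fix_orbit {x u : G12} (h : x * u = u * x) {p : Fin 12} (hp : (x : P12) p = p) (s : Finset (Fin 12))
    (hs : 5 ≤ s.card) (hu : ∀ i ∈ s, ∃ k : Fin 12, ((u ^ (k : ℕ) : G12) : P12) p = i) : x = 1 := by
  apply Subtype.ext
  apply fix_five x.2 s hs
  intro i hi
  obtain ⟨k, hk⟩ := hu i hi
  rw [← hk]
  have h1 : x * u ^ (k : ℕ) = u ^ (k : ℕ) * x := (Commute.pow_right (show Commute x u from h) k)
  have h2 := congrArg (fun z : G12 => (z : P12) p) h1
  change (x : P12) (((u ^ (k : ℕ) : G12) : P12) p) = ((u ^ (k : ℕ) : G12) : P12) ((x : P12) p) at h2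
  rw [h2, hp]

/-! ### the generators `g, n, y` -/

/-- word of `g` -/
def wg : List (Fin 6) := [1, 5, 0, 2, 1, 5, 4]
/-- word of `n` -/
def wn : List (Fin 6) := [1, 2, 3, 4]

/-- an element of order 11 -/
def g : G12 := el wg
/-- an element of order 5 -/
def n : G12 := el wn
/-- the involution commuting with `n` -/
def y : G12 := lt 0

/-- words of powers -/
def pw (w : List (Fin 6)) : ℕ → List (Fin 6)
  | 0 => []
  | k + 1 => pw w k ++ w

theorem el_pw (w : List (Fin 6)) (k : ℕ) : el (pw w k) = el w ^ k := by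
  induction k with
  | zero => rfl
  | succ k ih => rw [pw, el_append, ih, pow_succ]

theorem g_pow : g ^ 11 = 1 := by
  rw [g, ← el_pw, ← el_nil]
  exact el_eq (by decide +kernel)

theorem n_pow : n ^ 5 = 1 := by
  rw [n, ← el_pw, ← el_nil]
  exact el_eq (by decide +kernel)

theorem y_sq : y * y = 1 := lt_sq 0

theorem g_ne : g ≠ 1 := by
  rw [g, ← el_nil, Ne, el_eq_iff]
  decide +kernel

theorem n_ne : n ≠ 1 := by
  rw [n, ← el_nil, Ne, el_eq_iff]
  decide +kernel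

theorem n_g : n * g = g ^ 4 * n := by
  rw [n, g, ← el_pw, ← el_append, ← el_append]
  exact el_eq (by decide +kernel)

theorem y_n : y * n = n * y := by
  rw [y, ← el_single, n, ← el_append, ← el_append]
  exact el_eq (by decide +kernel)

theorem orderOf_g : orderOf g = 11 :=
  have : Fact (Nat.Prime 11) := ⟨by norm_num⟩
  orderOf_eq_prime g_pow g_ne

theorem apply_g (k : ℕ) (i : Fin 12) : (((g ^ k : G12) : P12) i : ℕ) = dg (wt (pw wg k)) i := by
  rw [g, ← el_pw, el_apply]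

theorem apply_n (k : ℕ) (i : Fin 12) : (((n ^ k : G12) : P12) i : ℕ) = dg (wt (pw wn k)) i := by
  rw [n, ← el_pw, el_apply]

/-! ### the centraliser of `g` -/

theorem orb_g : ∀ i : Fin 12, i ≠ 11 → ∃ k : Fin 12, ((g ^ (k : ℕ) : G12) : P12) 0 = i := by
  have h : ∀ i : Fin 12, i ≠ 11 → ∃ k : Fin 12, dg (wt (pw wg k)) 0 = i := by decide +kernel
  intro i hi
  obtain ⟨k, hk⟩ := h i hi
  exact ⟨k, Fin.ext (by rw [apply_g]; exact hk)⟩

theorem fix_g : ∀ i : Fin 12, (g : P12) i = i → i = 11 := by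
  have h : ∀ i : Fin 12, dg (wt wg) i = i → i = 11 := by decide +kernel
  intro i hi
  apply h i
  have h1 := apply_g 1 i
  rw [pow_one] at h1
  have h2 : pw wg 1 = wg := rfl
  rw [h2] at h1
  rw [← h1, hi]

theorem g_11 : (g : P12) 11 = 11 := by
  have h1 := apply_g 1 11
  rw [pow_one] at h1
  apply Fin.ext
  rw [h1]
  decide +kernel

theorem cent_g {x : G12} (h : x * g = g * x) : ∃ k : Fin 12, x = g ^ (k : ℕ) := by
  have h11 : (x : P12) 11 = 11 := by
    apply fix_g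
    have h1 := congrArg (fun z : G12 => (z : P12) 11) h
    change (x : P12) ((g : P12) 11) = (g : P12) ((x : P12) 11) at h1
    rw [← h1, g_11]
  have h0 : (x : P12) 0 ≠ 11 := by
    intro h1
    have h2 := (x : P12).injective (h1.trans h11.symm)
    exact absurd h2 (by decide)
  obtain ⟨k, hk⟩ := orb_g _ h0
  refine ⟨k, ?_⟩
  have h1 : (g ^ (k : ℕ))⁻¹ * x = 1 := by
    apply fix_orbit (u := g) (p := 0) _ _ (Finset.univ.erase 11) (by decide)
      (fun i hi => orb_g i (Finset.ne_of_mem_erase hi))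
    · have h2 : Commute (g ^ (k : ℕ)) g := Commute.pow_left (Commute.refl g) k
      exact ((h2.inv_left).mul_left (show Commute x g from h))
    · rw [Subgroup.coe_mul, Perm.mul_apply, ← hk, Subgroup.coe_inv]
      exact Perm.inv_eq_iff_eq.mpr rfl
  exact (inv_mul_eq_one.mp h1).symm

/-! ### the centraliser of `n` -/

theorem orb_n0 : ∀ i : Fin 12, i ∈ ({0, 10, 4, 5, 2} : Finset (Fin 12)) → ∃ k : Fin 12, ((n ^ (k : ℕ) : G12) : P12) 0 = i := by
  have h : ∀ i : Fin 12, i ∈ ({0, 10, 4, 5, 2} : Finset (Fin 12)) → ∃ k : Fin 12, dg (wt (pw wn k)) 0 = i := by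
    decide +kernel
  intro i hi
  obtain ⟨k, hk⟩ := h i hi
  exact ⟨k, Fin.ext (by rw [apply_n]; exact hk)⟩

theorem orb_n6 : ∀ i : Fin 12, i ∈ ({1, 6, 8, 3, 7} : Finset (Fin 12)) → ∃ k : Fin 12, ((n ^ (k : ℕ) : G12) : P12) 6 = i := by
  have h : ∀ i : Fin 12, i ∈ ({1, 6, 8, 3, 7} : Finset (Fin 12)) → ∃ k : Fin 12, dg (wt (pw wn k)) 6 = i := by
    decide +kernel
  intro i hi
  obtain ⟨k, hk⟩ := h i hi
  exact ⟨k, Fin.ext (by rw [apply_n]; exact hk)⟩

theorem inv_n0 : ∀ k : Fin 5, ((n ^ (k : ℕ) : G12) : P12)⁻¹ 0 ∈ ({0, 10, 4, 5, 2} : Finset (Fin 12)) := by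
  have h : ∀ k : Fin 5, ∀ i : Fin 12, dg (wt (pw wn k)) i = 0 → i ∈ ({0, 10, 4, 5, 2} : Finset (Fin 12)) := by
    decide +kernel
  intro k
  apply h k
  rw [← apply_n]
  have h1 : ((n ^ (k : ℕ) : G12) : P12) (((n ^ (k : ℕ) : G12) : P12)⁻¹ 0) = 0 := Perm.eq_inv_iff_eq.mp rfl
  rw [h1]
  rfl

theorem apply_n0 : (n : P12) 0 ≠ 0 := by
  intro h
  have h1 := apply_n 1 0
  rw [pow_one, h] at h1
  revert h1
  decide +kernel

theorem fix_n9 : (n : P12) 9 = 9 := by
  have h1 := apply_n 1 9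
  rw [pow_one] at h1
  exact Fin.ext (h1.trans (by decide +kernel))

theorem fix_n11 : (n : P12) 11 = 11 := by
  have h1 := apply_n 1 11
  rw [pow_one] at h1
  exact Fin.ext (h1.trans (by decide +kernel))

theorem y0 : (y : P12) 0 = 6 := by
  have h1 := el_apply [0] 0
  rw [el_single] at h1
  exact Fin.ext (h1.trans (by decide +kernel))

theorem mem_zpowers_n {x : G12} (h : x * n = n * x) (h0 : (x : P12) 0 ∈ ({0, 10, 4, 5, 2} : Finset (Fin 12))) :
    ∃ k : Fin 12, x = n ^ (k : ℕ) := by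
  obtain ⟨k, hk⟩ := orb_n0 _ h0
  refine ⟨k, ?_⟩
  have h1 : (n ^ (k : ℕ))⁻¹ * x = 1 := by
    apply fix_orbit (u := n) (p := 0) _ _ {0, 10, 4, 5, 2} (by decide) orb_n0
    · have h2 : Commute (n ^ (k : ℕ)) n := Commute.pow_left (Commute.refl n) k
      exact ((h2.inv_left).mul_left (show Commute x n from h))
    · rw [Subgroup.coe_mul, Perm.mul_apply, ← hk, Subgroup.coe_inv]
      exact Perm.inv_eq_iff_eq.mpr rfl
  exact (inv_mul_eq_one.mp h1).symm

theorem eq_one_of_n_pow {z : G12} {k : ℕ} (hz : z = n ^ k) (h : z * z = 1) : z = 1 := by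
  have h1 : z ^ 5 = 1 := by rw [hz, ← pow_mul, mul_comm, pow_mul, n_pow, one_pow]
  calc z = z ^ 5 * ((z * z) * (z * z))⁻¹ := by group
    _ = 1 := by rw [h1, h, one_mul, one_mul, inv_one]

/-- `y` is the only involution commuting with `n`. -/
theorem eq_y {x : G12} (h : x * n = n * x) (hx : x * x = 1) (hx1 : x ≠ 1) : x = y := by
  -- `x 0` lies in the other orbit
  have h6 : (x : P12) 0 ∈ ({1, 6, 8, 3, 7} : Finset (Fin 12)) := by
    have ha : (x : P12) 0 ∉ ({0, 10, 4, 5, 2} : Finset (Fin 12)) := by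
      intro h0
      obtain ⟨k, hk⟩ := mem_zpowers_n h h0
      exact hx1 (eq_one_of_n_pow hk hx)
    have hb : (n : P12) ((x : P12) 0) ≠ (x : P12) 0 := by
      intro h1
      have h2 := congrArg (fun z : G12 => (z : P12) 0) h
      change (x : P12) ((n : P12) 0) = (n : P12) ((x : P12) 0) at h2
      rw [h1] at h2
      exact apply_n0 ((x : P12).injective h2)
    have hc : (x : P12) 0 ≠ 9 := fun h1 => hb (by rw [h1, fix_n9])
    have hd : (x : P12) 0 ≠ 11 := fun h1 => hb (by rw [h1, fix_n11])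
    generalize (x : P12) 0 = i at *
    revert ha hc hd
    clear hb
    revert i
    decide
  obtain ⟨k, hk⟩ := orb_n6 _ h6
  -- `x 6` lies in the orbit of 0
  have h7 : (n : P12) ^ 5 = 1 := congrArg Subtype.val n_pow
  have hxy : (x * y) * n = n * (x * y) := (Commute.mul_left (show Commute x n from h) (show Commute y n from y_n))
  have hxy0 : ((x * y : G12) : P12) 0 ∈ ({0, 10, 4, 5, 2} : Finset (Fin 12)) := by
    rw [Subgroup.coe_mul, Perm.mul_apply, y0]
    have h8 : (x * n ^ (k : ℕ) : G12) = n ^ (k : ℕ) * x := Commute.pow_right (show Commute x n from h) k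
    have h9 := congrArg (fun z : G12 => (z : P12) 6) h8
    change (x : P12) (((n ^ (k : ℕ) : G12) : P12) 6) = ((n ^ (k : ℕ) : G12) : P12) ((x : P12) 6) at h9
    rw [hk] at h9
    have h10 := congrArg (fun z : G12 => (z : P12) 0) hx
    change (x : P12) ((x : P12) 0) = 0 at h10
    rw [h10] at h9
    have h11 : (x : P12) 6 = ((n ^ (k : ℕ) : G12) : P12)⁻¹ 0 := by
      rw [Perm.eq_inv_iff_eq, ← h9]
    rw [h11]
    have h12 : (n ^ (k : ℕ) : G12) = n ^ ((k : ℕ) % 5) := by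
      rw [pow_eq_pow_mod _ n_pow]
    rw [h12]
    exact inv_n0 ⟨(k : ℕ) % 5, Nat.mod_lt _ (by norm_num)⟩
  obtain ⟨j, hj⟩ := mem_zpowers_n hxy hxy0
  have hc : Commute x (x * y) := by
    have h13 : Commute x (n ^ (j : ℕ)) := Commute.pow_right (show Commute x n from h) j
    rwa [← hj] at h13
  have hxy' : x * y = y * x := by
    have h14 : x * (x * y) = x * y * x := hc
    rw [← mul_assoc, hx, one_mul] at h14
    calc x * y = x * (x * y * x) := by rw [← h14]
      _ = (x * x) * (y * x) := by group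
      _ = y * x := by rw [hx, one_mul]
  have h15 : (x * y) * (x * y) = 1 := by
    calc (x * y) * (x * y) = (x * x) * (y * y) := by
          rw [mul_assoc, ← mul_assoc y, ← hxy', mul_assoc x y y, ← mul_assoc]
      _ = 1 := by rw [hx, y_sq, one_mul]
  have h16 := eq_one_of_n_pow hj h15
  rw [mul_eq_one_iff_eq_inv.mp h16]
  exact inv_eq_of_mul_eq_one_left y_sq

/-! ### generation -/

/-- words of `g, g⁻¹, n, n⁻¹, y` -/
def sub (k : Fin 5) : List (Fin 6) := [wg, wg.reverse, wn, wn.reverse, [0]].getD k []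

/-- the letters as words in `g, g⁻¹, n, n⁻¹, y` -/
def lw (k : Fin 6) : List (Fin 5) :=
  [[4], [3, 0, 4, 1, 4, 0, 4, 1, 4, 0, 4, 1, 2], [0, 4, 1, 4, 0, 4, 1, 4, 0, 4, 1],
    [1, 4, 0, 4, 1, 1, 4, 0, 0, 4, 1, 4, 0], [0, 4, 1, 4, 0, 3, 0, 4, 1, 4, 0, 0],
    [0, 4, 0, 0, 4, 1, 4, 1, 2, 4, 0, 2, 0]].getD k []

theorem lw_eq (k : Fin 6) : el ((lw k).flatMap sub) = lt k := by
  rw [← el_single]
  apply el_eq
  revert k
  decide +kernel

/-- `G12 = ⟨g, n, y⟩`. -/
theorem eq_top {K : Subgroup G12} (hg : g ∈ K) (hn : n ∈ K) (hy : y ∈ K) : K = ⊤ := by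
  have hsub : ∀ k, el (sub k) ∈ K := by
    intro k
    fin_cases k
    · exact hg
    · show el wg.reverse ∈ K
      rw [el_reverse]; exact K.inv_mem hg
    · exact hn
    · show el wn.reverse ∈ K
      rw [el_reverse]; exact K.inv_mem hn
    · show el [0] ∈ K
      rw [el_single]; exact hy
  have hfl : ∀ w : List (Fin 5), el (w.flatMap sub) ∈ K := by
    intro w
    induction w with
    | nil => exact K.one_mem
    | cons k w ih =>
      rw [List.flatMap_cons, el_append]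
      exact K.mul_mem (hsub k) ih
  rw [eq_top_iff]
  rintro x -
  have h1 : G12 ≤ K.map G12.subtype := by
    refine (Subgroup.closure_le _).2 ?_
    rintro _ ⟨k, rfl⟩
    refine ⟨lt k, ?_, rfl⟩
    rw [← lw_eq]
    exact hfl _
  obtain ⟨z, hz, hzx⟩ := h1 x.2
  have h2 : z = x := Subtype.ext hzx
  rwa [← h2]

/-- Two homomorphisms that agree on `g, n, y` are equal. -/
theorem hom_ext {M : Type*} [Group M] {φ ψ : G12 →* M} (hg : φ g = ψ g) (hn : φ n = ψ n) (hy : φ y = ψ y) : φ = ψ := by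
  have h1 : MonoidHom.eqLocus φ ψ = ⊤ := eq_top hg hn hy
  ext x
  have h2 : x ∈ MonoidHom.eqLocus φ ψ := by rw [h1]; exact Subgroup.mem_top x
  exact h2

theorem center_eq_bot : Subgroup.center G12 = ⊥ := by
  rw [eq_bot_iff]
  intro x hx
  rw [Subgroup.mem_center_iff] at hx
  obtain ⟨k, rfl⟩ := cent_g (hx g).symm
  rw [Subgroup.mem_bot]
  have h1 : n * g ^ (k : ℕ) = (g ^ (k : ℕ)) ^ 4 * n := by
    have h2 : n * g * n⁻¹ = g ^ 4 := by rw [n_g, mul_inv_cancel_right]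
    have h3 : (n * g * n⁻¹) ^ (k : ℕ) = n * g ^ (k : ℕ) * n⁻¹ := conj_pow
    rw [h2, ← pow_mul, mul_comm, pow_mul] at h3
    rw [h3, inv_mul_cancel_right]
  rw [hx n] at h1
  have h4 : g ^ (k : ℕ) = (g ^ (k : ℕ)) ^ 4 := mul_right_cancel h1
  have h5 : (g ^ (k : ℕ)) ^ 3 = 1 := by
    have h6 : g ^ (k : ℕ) * (g ^ (k : ℕ)) ^ 3 = g ^ (k : ℕ) * 1 := by rw [← pow_succ', ← h4, mul_one]
    exact mul_left_cancel h6
  have h7 : (g ^ (k : ℕ)) ^ 11 = 1 := by rw [← pow_mul, mul_comm, pow_mul, g_pow, one_pow]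
  calc g ^ (k : ℕ) = ((g ^ (k : ℕ)) ^ 3) ^ 4 * ((g ^ (k : ℕ)) ^ 11)⁻¹ := by group
    _ = 1 := by rw [h5, h7, one_pow, one_mul, inv_one]

/-! ### elements of order 11 -/

theorem n_pow_g (i : ℕ) : n ^ i * g * (n ^ i)⁻¹ = g ^ (4 ^ i) := by
  induction i with
  | zero => rw [pow_zero, pow_zero, pow_one, one_mul, inv_one, mul_one]
  | succ i ih =>
    have h2 : n * g * n⁻¹ = g ^ 4 := by rw [n_g, mul_inv_cancel_right]
    have h3 : (n * g * n⁻¹) ^ (4 ^ i) = n * g ^ (4 ^ i) * n⁻¹ := conj_pow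
    calc n ^ (i + 1) * g * (n ^ (i + 1))⁻¹ = n * (n ^ i * g * (n ^ i)⁻¹) * n⁻¹ := by rw [pow_succ']; group
      _ = g ^ (4 ^ (i + 1)) := by rw [ih, ← h3, h2, ← pow_mul, pow_succ']

/-- Every element of order 11 is conjugate to `g` or `g⁻¹`. -/
theorem conj_of_order {x : G12} (hx : orderOf x = 11) : ∃ m : G12, m * x * m⁻¹ = g ∨ m * x * m⁻¹ = g⁻¹ := by
  have hfact : Fact (Nat.Prime 11) := ⟨by norm_num⟩
  have hfac : (Nat.card G12).factorization 11 = 1 := by
    rw [card_G12, show (95040 : ℕ) = 11 * 8640 by norm_num, Nat.factorization_mul (by norm_num) (by norm_num),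
      Finsupp.add_apply, Nat.Prime.factorization_self hfact.out,
      Nat.factorization_eq_zero_of_not_dvd (by norm_num)]
  have hsyl : ∀ z : G12, orderOf z = 11 → Nat.card (Subgroup.zpowers z) = 11 ^ (Nat.card G12).factorization 11 := by
    intro z hz
    rw [hfac, pow_one, Nat.card_zpowers, hz]
  obtain ⟨m, hm⟩ := MulAction.exists_smul_eq G12 (Sylow.ofCard _ (hsyl x hx)) (Sylow.ofCard _ (hsyl g orderOf_g))
  have h1 : m * x * m⁻¹ ∈ Subgroup.zpowers g := by
    have h2 : (Sylow.ofCard _ (hsyl g orderOf_g) : Subgroup G12) = Subgroup.zpowers g := rfl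
    rw [← h2, ← hm, Sylow.coe_subgroup_smul]
    exact Subgroup.smul_mem_pointwise_smul x (MulAut.conj m) _ (Subgroup.mem_zpowers x)
  obtain ⟨k, hk⟩ := (isOfFinOrder_of_finite g).mem_powers_iff_mem_zpowers.mpr h1
  have hk' : m * x * m⁻¹ = g ^ (k % 11) := by
    rw [← hk]
    exact pow_eq_pow_mod k g_pow
  have hne : k % 11 ≠ 0 := by
    intro h0
    rw [h0, pow_zero] at hk'
    have h3 : x = 1 := by
      calc x = m⁻¹ * (m * x * m⁻¹) * m := by group
        _ = 1 := by rw [hk']; group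
    rw [h3, orderOf_one] at hx
    exact absurd hx (by norm_num)
  have hdec : ∀ k : Fin 11, k ≠ 0 → ∃ i : Fin 5, (k * 4 ^ (i : ℕ) : ℕ) % 11 = 1 ∨ (k * 4 ^ (i : ℕ) : ℕ) % 11 = 10 := by
    decide
  obtain ⟨i, hi⟩ := hdec ⟨k % 11, Nat.mod_lt _ (by norm_num)⟩ (fun h => hne (congrArg Fin.val h))
  refine ⟨n ^ (i : ℕ) * m, ?_⟩
  have h4 : n ^ (i : ℕ) * m * x * (n ^ (i : ℕ) * m)⁻¹ = g ^ ((k % 11) * 4 ^ (i : ℕ)) := by
    calc n ^ (i : ℕ) * m * x * (n ^ (i : ℕ) * m)⁻¹ = n ^ (i : ℕ) * (m * x * m⁻¹) * (n ^ (i : ℕ))⁻¹ := by group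
      _ = (n ^ (i : ℕ) * g * (n ^ (i : ℕ))⁻¹) ^ (k % 11) := by rw [hk', conj_pow]
      _ = g ^ ((k % 11) * 4 ^ (i : ℕ)) := by rw [n_pow_g, ← pow_mul, mul_comm]
  rw [h4, pow_eq_pow_mod _ g_pow]
  rcases hi with hi | hi
  · left
    change (k % 11 * 4 ^ (i : ℕ)) % 11 = 1 at hi
    rw [hi, pow_one]
  · right
    change (k % 11 * 4 ^ (i : ℕ)) % 11 = 10 at hi
    rw [hi]
    apply eq_inv_of_mul_eq_one_left
    rw [← pow_succ, g_pow]

/-- **Normal form of an automorphism modulo inner automorphisms.** -/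
theorem normal_form (φ : MulAut G12) : ∃ m : G12, (φ g = m * g * m⁻¹ ∨ φ g = m * g⁻¹ * m⁻¹) ∧ φ n = m * n * m⁻¹ ∧
    φ y = m * y * m⁻¹ := by
  obtain ⟨m1, hm1⟩ := conj_of_order (x := φ g) (by rw [φ.orderOf_eq, orderOf_g])
  -- `φ1 = conj m1 ∘ φ` maps `g` to `g^{±1}`
  set φ1 : MulAut G12 := MulAut.conj m1 * φ with hφ1
  have e1 : ∀ z, φ1 z = m1 * φ z * m1⁻¹ := fun z => rfl
  have hg1 : φ1 g = g ∨ φ1 g = g⁻¹ := by rw [e1]; exact hm1
  -- `φ1 n = n g^j`
  have hn1 : ∃ j : Fin 12, φ1 n = n * g ^ (j : ℕ) := by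
    have h1 : φ1 n * φ1 g * (φ1 n)⁻¹ = (φ1 g) ^ 4 := by
      rw [← map_mul, ← map_inv, ← map_mul, ← map_pow, n_g, mul_inv_cancel_right]
    have h2 : φ1 n * g * (φ1 n)⁻¹ = g ^ 4 := by
      rcases hg1 with h3 | h3
      · rwa [h3] at h1
      · rw [h3] at h1
        calc φ1 n * g * (φ1 n)⁻¹ = (φ1 n * g⁻¹ * (φ1 n)⁻¹)⁻¹ := by group
          _ = g ^ 4 := by rw [h1]; group
    have h3 : (n⁻¹ * φ1 n) * g = g * (n⁻¹ * φ1 n) := by
      have h4 : φ1 n * g = g ^ 4 * φ1 n := mul_inv_eq_iff_eq_mul.mp h2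
      have h5 : n⁻¹ * g ^ 4 = g * n⁻¹ := by
        rw [inv_mul_eq_iff_eq_mul, ← mul_assoc, n_g, mul_inv_cancel_right]
      rw [mul_assoc, h4, ← mul_assoc, h5, mul_assoc]
    obtain ⟨j, hj⟩ := cent_g h3
    exact ⟨j, by rw [← hj, mul_inv_cancel_left]⟩
  obtain ⟨j, hj⟩ := hn1
  -- conjugation by `g^i`
  have hni : ∀ i : ℕ, g ^ i * n = n * g ^ (3 * i) := by
    intro i
    have h1 : n * g ^ 3 = g * n := by
      have h2 : n * g * n⁻¹ = g ^ 4 := by rw [n_g, mul_inv_cancel_right]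
      have h3 : (n * g * n⁻¹) ^ 3 = n * g ^ 3 * n⁻¹ := conj_pow
      rw [h2, ← pow_mul] at h3
      have h4 : g ^ (4 * 3) = g := by rw [show 4 * 3 = 11 + 1 by norm_num, pow_add, g_pow, one_mul, pow_one]
      rw [h4] at h3
      exact (eq_mul_inv_iff_mul_eq.mp h3).symm
    induction i with
    | zero => simp
    | succ i ih =>
      calc g ^ (i + 1) * n = g ^ i * (g * n) := by rw [pow_succ]; group
        _ = g ^ i * n * g ^ 3 := by rw [← h1]; group
        _ = n * g ^ (3 * (i + 1)) := by rw [ih, mul_assoc, ← pow_add]; congr 2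
  obtain ⟨i, hi⟩ : ∃ i : ℕ, g ^ i * (n * g ^ (j : ℕ)) * (g ^ i)⁻¹ = n := by
    have hdec : ∀ j : Fin 12, ∃ i : Fin 11, (3 * i + j : ℕ) % 11 = i := by decide
    obtain ⟨i, hi⟩ := hdec j
    refine ⟨i, ?_⟩
    rw [mul_inv_eq_iff_eq_mul, ← mul_assoc, hni, mul_assoc, ← pow_add, pow_eq_pow_mod _ g_pow, hi]
  set φ2 : MulAut G12 := MulAut.conj (g ^ i) * φ1 with hφ2
  have e2 : ∀ z, φ2 z = g ^ i * φ1 z * (g ^ i)⁻¹ := fun z => rfl
  have hg2 : φ2 g = g ∨ φ2 g = g⁻¹ := by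
    rcases hg1 with h1 | h1
    · left
      rw [e2, h1]; group
    · right
      rw [e2, h1]; group
  have hn2 : φ2 n = n := by rw [e2, hj, hi]
  have hy2 : φ2 y = y := by
    apply eq_y
    · have h1 : φ2 y * φ2 n = φ2 n * φ2 y := by rw [← map_mul, ← map_mul, y_n]
      rwa [hn2] at h1
    · rw [← map_mul, y_sq, map_one]
    · intro h
      have h2 : y = 1 := (map_eq_one_iff φ2 φ2.injective).mp h
      have h3 := y0
      rw [h2] at h3
      exact absurd h3 (by decide)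
  have e3 : ∀ z, φ z = (g ^ i * m1)⁻¹ * φ2 z * (g ^ i * m1) := by
    intro z
    rw [e2, e1]; group
  refine ⟨(g ^ i * m1)⁻¹, ?_, ?_, ?_⟩
  · rcases hg2 with h | h
    · left; rw [e3, h, inv_inv]
    · right; rw [e3, h, inv_inv]
  · rw [e3, hn2, inv_inv]
  · rw [e3, hy2, inv_inv]

/-- Two automorphisms with the same sign differ by an inner one. -/
theorem eq_conj_mul {φ ψ : MulAut G12} {ε : G12} {m k : G12} (hφg : φ g = m * ε * m⁻¹) (hψg : ψ g = k * ε * k⁻¹)
    (hφn : φ n = m * n * m⁻¹) (hψn : ψ n = k * n * k⁻¹) (hφy : φ y = m * y * m⁻¹) (hψy : ψ y = k * y * k⁻¹) :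
    φ = MulAut.conj (m * k⁻¹) * ψ := by
  have h1 : (φ : G12 →* G12) = ((MulAut.conj (m * k⁻¹) * ψ : MulAut G12) : G12 →* G12) := by
    apply hom_ext
    · show φ g = m * k⁻¹ * ψ g * (m * k⁻¹)⁻¹
      rw [hφg, hψg]; group
    · show φ n = m * k⁻¹ * ψ n * (m * k⁻¹)⁻¹
      rw [hφn, hψn]; group
    · show φ y = m * k⁻¹ * ψ y * (m * k⁻¹)⁻¹
      rw [hφy, hψy]; group
  ext1 z
  exact DFunLike.congr_fun h1 z

/-- **`|Out(M₁₂)| ≤ 2`.** -/
theorem out {φ ψ : MulAut G12} (hφ : φ ∉ (MulAut.conj : G12 →* MulAut G12).range)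
    (hψ : ψ ∉ (MulAut.conj : G12 →* MulAut G12).range) : φ * ψ ∈ (MulAut.conj : G12 →* MulAut G12).range := by
  have hne : ∀ φ : MulAut G12, φ ∉ (MulAut.conj : G12 →* MulAut G12).range →
      ∃ m, φ g = m * g⁻¹ * m⁻¹ ∧ φ n = m * n * m⁻¹ ∧ φ y = m * y * m⁻¹ := by
    intro φ hφ
    obtain ⟨m, hg | hg, hn, hy⟩ := normal_form φ
    · exfalso
      apply hφ
      refine ⟨m, ?_⟩
      have h1 := eq_conj_mul (φ := φ) (ψ := 1) (ε := g) (m := m) (k := 1) hg (by simp) hn (by simp) hy (by simp)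
      rw [h1, inv_one, mul_one, mul_one]
    · exact ⟨m, hg, hn, hy⟩
  have hψ' : ψ⁻¹ ∉ (MulAut.conj : G12 →* MulAut G12).range := by
    intro h
    apply hψ
    rw [← inv_inv ψ]
    exact Subgroup.inv_mem _ h
  obtain ⟨m, hg, hn, hy⟩ := hne φ hφ
  obtain ⟨k, kg, kn, ky⟩ := hne _ hψ'
  have h1 := eq_conj_mul hg kg hn kn hy ky
  refine ⟨m * k⁻¹, ?_⟩
  rw [h1, inv_mul_cancel_right]

/-- An automorphism of odd order is inner. -/
theorem inner_of_odd {φ : MulAut G12} {k : ℕ} (hk : Odd k) (h : φ ^ k = 1) :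
    φ ∈ (MulAut.conj : G12 →* MulAut G12).range := by
  by_contra hφ
  obtain ⟨j, rfl⟩ := hk
  have h2 := out hφ hφ
  rw [pow_succ, pow_mul, pow_two] at h
  apply hφ
  have h3 : φ = ((φ * φ) ^ j)⁻¹ := (inv_eq_of_mul_eq_one_right h).symm
  rw [h3]
  exact Subgroup.inv_mem _ (Subgroup.pow_mem _ h2 _)

/-! ### transfer to isomorphic groups -/

/-- `|Out(X)| ≤ 2` for `X ≃ M₁₂`. -/
theorem out_of_equiv {X : Type*} [Group X] (e : X ≃* G12) {φ ψ : MulAut X}
    (hφ : φ ∉ (MulAut.conj : X →* MulAut X).range) (hψ : ψ ∉ (MulAut.conj : X →* MulAut X).range) :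
    φ * ψ ∈ (MulAut.conj : X →* MulAut X).range := by
  have key : ∀ φ : MulAut X, MulAut.congr e φ ∈ (MulAut.conj : G12 →* MulAut G12).range →
      φ ∈ (MulAut.conj : X →* MulAut X).range := by
    rintro φ ⟨c, hc⟩
    refine ⟨e.symm c, ?_⟩
    ext1 x
    apply e.injective
    have h1 := DFunLike.congr_fun hc (e x)
    have h2 : (MulAut.congr e φ) (e x) = e (φ x) := by
      change e (φ (e.symm (e x))) = _
      rw [e.symm_apply_apply]
    rw [MulAut.conj_apply, h2] at h1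
    rw [MulAut.conj_apply, map_mul, map_mul, map_inv, e.apply_symm_apply, h1]
  apply key
  rw [map_mul]
  exact out (fun h => hφ (key _ h)) (fun h => hψ (key _ h))

/-- An automorphism of odd order of `X ≃ M₁₂` is inner. -/
theorem inner_of_odd_of_equiv {X : Type*} [Group X] (e : X ≃* G12) {φ : MulAut X} {k : ℕ} (hk : Odd k)
    (h : φ ^ k = 1) : φ ∈ (MulAut.conj : X →* MulAut X).range := by
  by_contra hφ
  obtain ⟨j, rfl⟩ := hk
  have h2 := out_of_equiv e hφ hφ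
  rw [pow_succ, pow_mul, pow_two] at h
  apply hφ
  have h3 : φ = ((φ * φ) ^ j)⁻¹ := (inv_eq_of_mul_eq_one_right h).symm
  rw [h3]
  exact Subgroup.inv_mem _ (Subgroup.pow_mem _ h2 _)

/-- `|Out(M₁₂)| ≤ 2` for the group of permutations of 24 points. -/
theorem out_spor {φ ψ : MulAut Spor.M12} (hφ : φ ∉ (MulAut.conj : Spor.M12 →* MulAut Spor.M12).range)
    (hψ : ψ ∉ (MulAut.conj : Spor.M12 →* MulAut Spor.M12).range) :
    φ * ψ ∈ (MulAut.conj : Spor.M12 →* MulAut Spor.M12).range :=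
  out_of_equiv equiv hφ hψ

end Cfsg.Agent.CoThreeStd.M12.Out
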