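import Mathlib

/-!
# Permutations of twelve points as numbers

`dg t i` is the hexadecimal digit `i` of `t`; `Rep x t`: the digits of `t` are the images of the permutation `x`.
`srch` is a search through the products of transversals.
-/

set_option autoImplicit false

namespace Cfsg.Agent.CoThreeStd.M12

abbrev P12 : Type := Equiv.Perm (Fin 12)

/-- Digit `i`. -/
def dg (t i : ℕ) : ℕ := (t / 16 ^ i) % 16

/-- Twelve digits. -/
def pk (a b c d e f g h i j k l : ℕ) : ℕ :=
  a + 16 * (b + 16 * (c + 16 * (d + 16 * (e + 16 * (f + 16 * (g + 16 * (h + 16 * (i + 16 * (j + 16 * (k + 16 * l))))))))))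

theorem dg_lt (t i : ℕ) : dg t i < 16 := Nat.mod_lt _ (by norm_num)

theorem dg_pk (f : ℕ → ℕ) (hf : ∀ i, f i < 16) (i : ℕ) (hi : i < 12) :
    dg (pk (f 0) (f 1) (f 2) (f 3) (f 4) (f 5) (f 6) (f 7) (f 8) (f 9) (f 10) (f 11)) i = f i := by
  have h0 := hf 0
  have h1 := hf 1
  have h2 := hf 2
  have h3 := hf 3
  have h4 := hf 4
  have h5 := hf 5
  have h6 := hf 6
  have h7 := hf 7
  have h8 := hf 8
  have h9 := hf 9
  have h10 := hf 10
  have h11 := hf 11
  unfold dg pk
  interval_cases i <;> norm_num <;> omega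

/-- The table of the product. -/
def mulT (s t : ℕ) : ℕ :=
  pk (dg s (dg t 0)) (dg s (dg t 1)) (dg s (dg t 2)) (dg s (dg t 3)) (dg s (dg t 4)) (dg s (dg t 5))
    (dg s (dg t 6)) (dg s (dg t 7)) (dg s (dg t 8)) (dg s (dg t 9)) (dg s (dg t 10)) (dg s (dg t 11))

/-- The table represents the permutation. -/
structure Rep (x : P12) (t : ℕ) : Prop where
  dg : ∀ i : Fin 12, dg t i = (x i : ℕ)
  lt : t < 16 ^ 12

theorem step_lt {a x n : ℕ} (ha : a < 16) (hx : x < 16 ^ n) : a + 16 * x < 16 ^ (n + 1) := by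
  rw [pow_succ]
  omega

theorem pk_lt (f : ℕ → ℕ) (hf : ∀ i, f i < 16) :
    pk (f 0) (f 1) (f 2) (f 3) (f 4) (f 5) (f 6) (f 7) (f 8) (f 9) (f 10) (f 11) < 16 ^ 12 := by
  unfold pk
  exact step_lt (hf 0) (step_lt (hf 1) (step_lt (hf 2) (step_lt (hf 3) (step_lt (hf 4) (step_lt (hf 5)
    (step_lt (hf 6) (step_lt (hf 7) (step_lt (hf 8) (step_lt (hf 9) (step_lt (hf 10)
      (by have := hf 11; norm_num; exact this)))))))))))

theorem Rep.mul {x y : P12} {s t : ℕ} (hx : Rep x s) (hy : Rep y t) : Rep (x * y) (mulT s t) := by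
  constructor
  · intro i
    unfold mulT
    rw [dg_pk (fun i => M12.dg s (M12.dg t i)) (fun i => dg_lt _ _) i i.2]
    show M12.dg s (M12.dg t i) = _
    rw [hy.dg i, hx.dg (y i)]
    rfl
  · exact pk_lt (fun i => M12.dg s (M12.dg t i)) (fun i => dg_lt _ _)

theorem dg_div (s i : ℕ) : dg (s / 16) i = dg s (i + 1) := by
  unfold dg
  rw [Nat.div_div_eq_div_mul, pow_succ, mul_comm]

theorem eq_of_dg_aux : ∀ (n : ℕ) {s t : ℕ}, s < 16 ^ n → t < 16 ^ n → (∀ i < n, dg s i = dg t i) → s = t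
  | 0, s, t, hs, ht, _ => by
    rw [pow_zero] at hs ht
    omega
  | n + 1, s, t, hs, ht, h => by
    have h1 : s / 16 = t / 16 := by
      apply eq_of_dg_aux n
      · rw [pow_succ] at hs; omega
      · rw [pow_succ] at ht; omega
      · intro i hi
        rw [dg_div, dg_div]
        exact h (i + 1) (by omega)
    have h2 := h 0 (by omega)
    unfold dg at h2
    rw [pow_zero] at h2
    omega

theorem eq_of_dg {s t : ℕ} (hs : s < 16 ^ 12) (ht : t < 16 ^ 12) (h : ∀ i : Fin 12, dg s i = dg t i) :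
    s = t := eq_of_dg_aux 12 hs ht fun i hi => h ⟨i, hi⟩

theorem Rep.eq_iff {x y : P12} {s t : ℕ} (hx : Rep x s) (hy : Rep y t) : x = y ↔ s = t := by
  constructor
  · intro h
    subst h
    exact eq_of_dg hx.lt hy.lt fun i => by rw [hx.dg, hy.dg]
  · intro h
    subst h
    refine Equiv.ext fun i => Fin.ext ?_
    rw [← hx.dg, ← hy.dg]

/-- The table of the identity. -/
def oneT : ℕ := 0xba9876543210

theorem Rep.one : Rep 1 oneT := ⟨by decide +kernel, by norm_num [oneT]⟩

theorem Rep.eq_one_iff {x : P12} {s : ℕ} (hx : Rep x s) : x = 1 ↔ s = oneT := hx.eq_iff Rep.one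

/-- The table is an involutory permutation. -/
def chkInv (t : ℕ) : Bool :=
  Nat.blt t (16 ^ 12) && (List.range 12).all fun i => Nat.blt (dg t i) 12 && Nat.beq (dg t (dg t i)) i

theorem chkInv_dg {t : ℕ} (h : chkInv t = true) (i : Fin 12) : dg t i < 12 ∧ dg t (dg t i) = i := by
  unfold chkInv at h
  rw [Bool.and_eq_true, List.all_eq_true] at h
  have h1 := h.2 i (List.mem_range.2 i.2)
  rw [Bool.and_eq_true] at h1
  refine ⟨?_, Nat.eq_of_beq_eq_true h1.2⟩
  have := h1.1
  rw [Nat.blt_eq] at this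
  exact this

/-- The involution with a given table. -/
def mkInv (t : ℕ) (h : chkInv t = true) : P12 where
  toFun i := ⟨dg t i, (chkInv_dg h i).1⟩
  invFun i := ⟨dg t i, (chkInv_dg h i).1⟩
  left_inv i := Fin.ext (chkInv_dg h i).2
  right_inv i := Fin.ext (chkInv_dg h i).2

theorem mkInv_rep (t : ℕ) (h : chkInv t = true) : Rep (mkInv t h) t := by
  refine ⟨fun i => rfl, ?_⟩
  unfold chkInv at h
  rw [Bool.and_eq_true, Nat.blt_eq] at h
  exact h.1

theorem mkInv_mul_self (t : ℕ) (h : chkInv t = true) : mkInv t h * mkInv t h = 1 := by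
  refine Equiv.ext fun i => ?_
  exact (mkInv t h).left_inv i

/-! ### the search -/

/-- Search through products of transversals with pruning conditions. -/
def srch : List (List ℕ × (ℕ → Bool)) → ℕ → (ℕ → Bool) → Bool
  | [], t, f => f t
  | (T, pr) :: l, t, f => T.all fun u =>
      (fun t' => bif pr t' then srch l t' f else true) (mulT t u)

theorem srch_nil {t : ℕ} {f : ℕ → Bool} (h : srch [] t f = true) : f t = true := h

theorem srch_cons {T : List ℕ} {pr : ℕ → Bool} {l : List (List ℕ × (ℕ → Bool))} {t : ℕ} {f : ℕ → Bool}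
    (h : srch ((T, pr) :: l) t f = true) {u : ℕ} (hu : u ∈ T) (hp : pr (mulT t u) = true) :
    srch l (mulT t u) f = true := by
  have h1 := List.all_eq_true.1 h u hu
  simpa [hp] using h1

end Cfsg.Agent.CoThreeStd.M12
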